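import Mathlib
import Cfsg.Agent.Lib.Helper44.FW.Defs

/-!
# FW (S3211): basic consequences of the configuration `Cfg`
-/

set_option autoImplicit false

namespace Cfsg.Agent.Lib.Helper84.FW

open Cfsg.Agent.Lib.Helper44.FW

universe u

section

variable {G : Type u} [Group G] {L₁ L₂ : Subgroup G} {j n : G}

theorem cfg_jj (h : Cfg L₁ L₂ j n) : j * j = 1 := by
  have := pow_orderOf_eq_one j
  rw [h.ord, pow_two] at this
  exact this

theorem cfg_j_inv (h : Cfg L₁ L₂ j n) : j⁻¹ = j := inv_eq_of_mul_eq_one_left (cfg_jj h)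

theorem cfg_j_ne_one (h : Cfg L₁ L₂ j n) : j ≠ 1 := by
  intro e
  have := h.ord
  rw [e, orderOf_one] at this
  omega

theorem cfg_nn (h : Cfg L₁ L₂ j n) : n * n = j := by
  rw [← pow_two]; exact h.hn2

theorem cfg_j_mem₁ (h : Cfg L₁ L₂ j n) : j ∈ L₁ := by
  have : j ∈ L₁ ⊓ L₂ := by rw [h.meet]; exact Subgroup.mem_zpowers j
  exact this.1

theorem cfg_j_mem₂ (h : Cfg L₁ L₂ j n) : j ∈ L₂ := by
  have : j ∈ L₁ ⊓ L₂ := by rw [h.meet]; exact Subgroup.mem_zpowers j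
  exact this.2

theorem cfg_meet (h : Cfg L₁ L₂ j n) {x : G} (h1 : x ∈ L₁) (h2 : x ∈ L₂) : x = 1 ∨ x = j := by
  have hx : x ∈ Subgroup.zpowers j := by rw [← h.meet]; exact ⟨h1, h2⟩
  obtain ⟨k, rfl⟩ := Subgroup.mem_zpowers_iff.mp hx
  rcases Int.even_or_odd' k with ⟨m, rfl | rfl⟩
  · left; rw [zpow_mul, zpow_two, cfg_jj h, one_zpow]
  · right; rw [zpow_add, zpow_mul, zpow_two, cfg_jj h, one_zpow, one_mul, zpow_one]

theorem cfg_comm_j {x : G} (hx : x ∈ Subgroup.centralizer ({j} : Set G)) : x * j = j * x :=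
  (Subgroup.mem_centralizer_iff.mp hx j (Set.mem_singleton j)).symm

theorem cfg_le₁ (h : Cfg L₁ L₂ j n) : L₁ ≤ Subgroup.centralizer ({j} : Set G) :=
  le_sup_left.trans h.le

theorem cfg_le₂ (h : Cfg L₁ L₂ j n) : L₂ ≤ Subgroup.centralizer ({j} : Set G) :=
  le_sup_right.trans h.le

/-- `L₁ ⊔ L₂` consists of the products `x * y`. -/
theorem cfg_mem_sup (h : Cfg L₁ L₂ j n) {r : G} (hr : r ∈ L₁ ⊔ L₂) :
    ∃ x ∈ L₁, ∃ y ∈ L₂, r = x * y := by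
  rw [Subgroup.sup_eq_closure] at hr
  induction hr using Subgroup.closure_induction with
  | mem z hz =>
    rcases hz with hz | hz
    · exact ⟨z, hz, 1, L₂.one_mem, (mul_one z).symm⟩
    · exact ⟨1, L₁.one_mem, z, hz, (one_mul z).symm⟩
  | one => exact ⟨1, L₁.one_mem, 1, L₂.one_mem, (mul_one 1).symm⟩
  | mul a b _ _ ha hb =>
    obtain ⟨x, hx, y, hy, rfl⟩ := ha
    obtain ⟨x', hx', y', hy', rfl⟩ := hb
    refine ⟨x * x', L₁.mul_mem hx hx', y * y', L₂.mul_mem hy hy', ?_⟩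
    have hc := h.comm x' hx' y hy
    calc x * y * (x' * y') = x * (y * x') * y' := by group
      _ = x * (x' * y) * y' := by rw [hc]
      _ = x * x' * (y * y') := by group
  | inv a _ ha =>
    obtain ⟨x, hx, y, hy, rfl⟩ := ha
    refine ⟨x⁻¹, L₁.inv_mem hx, y⁻¹, L₂.inv_mem hy, ?_⟩
    have hc := h.comm x⁻¹ (L₁.inv_mem hx) y⁻¹ (L₂.inv_mem hy)
    rw [mul_inv_rev, hc]

theorem cfg_mul_mem_sup {x y : G} (hx : x ∈ L₁) (hy : y ∈ L₂) : x * y ∈ L₁ ⊔ L₂ :=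
  Subgroup.mul_mem _ (Subgroup.mem_sup_left hx) (Subgroup.mem_sup_right hy)

/-- conjugation by `n` maps `L₁` into `L₂`. -/
theorem cfg_n₁ (h : Cfg L₁ L₂ j n) {x : G} (hx : x ∈ L₁) : n * x * n⁻¹ ∈ L₂ := by
  rw [← h.swap]
  exact ⟨x, hx, rfl⟩

/-- conjugation by `n` maps `L₂` into `L₁`. -/
theorem cfg_n₂ (h : Cfg L₁ L₂ j n) {y : G} (hy : y ∈ L₂) : n * y * n⁻¹ ∈ L₁ := by
  rw [← h.swap] at hy
  obtain ⟨x, hx, rfl⟩ := hy
  have hnn := cfg_nn h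
  have hxj : x * j = j * x := cfg_comm_j (cfg_le₁ h hx)
  have e : n * ((MulAut.conj n).toMonoidHom x) * n⁻¹ = x := by
    show n * (n * x * n⁻¹) * n⁻¹ = x
    calc n * (n * x * n⁻¹) * n⁻¹ = (n * n) * x * (n * n)⁻¹ := by group
      _ = j * x * j⁻¹ := by rw [hnn]
      _ = x := by rw [← hxj]; group
  rw [e]; exact hx

/-- for `x ∈ C(j)`, conjugation by `n⁻¹` and by `n` agree. -/
theorem cfg_n_inv (h : Cfg L₁ L₂ j n) {x : G} (hx : x ∈ Subgroup.centralizer ({j} : Set G)) :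
    n⁻¹ * x * n = n * x * n⁻¹ := by
  have hnn := cfg_nn h
  have hxj : x * j = j * x := cfg_comm_j hx
  calc n⁻¹ * x * n = n⁻¹ * (x * (n * n)) * n⁻¹ := by group
    _ = n⁻¹ * (n * n * x) * n⁻¹ := by rw [hnn, hxj]
    _ = n * x * n⁻¹ := by group

theorem cfg_conj_n_j (h : Cfg L₁ L₂ j n) : n * j * n⁻¹ = j := by
  have := cfg_comm_j h.hn
  rw [this]; group

theorem cfg_of_conj (h : Cfg L₁ L₂ j n) {z : G} (hz : n * z * n⁻¹ = 1 ∨ n * z * n⁻¹ = j) :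
    z = 1 ∨ z = j := by
  rcases hz with e | e
  · left; exact conj_eq_one_iff.mp e
  · right
    have hnj := cfg_comm_j h.hn
    calc z = n⁻¹ * (n * z * n⁻¹) * n := by group
      _ = n⁻¹ * j * n := by rw [e]
      _ = n⁻¹ * (n * j) := by rw [hnj]; group
      _ = j := by group

/-- `n ∉ L₁L₂`. -/
theorem cfg_n_notMem (h : Cfg L₁ L₂ j n) : n ∉ L₁ ⊔ L₂ := by
  intro hn
  obtain ⟨x, hx, y, hy, hxy⟩ := cfg_mem_sup h hn
  have hL₁ : ∀ z ∈ L₁, z = 1 ∨ z = j := by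
    intro z hz
    have m2 : n * z * n⁻¹ ∈ L₂ := cfg_n₁ h hz
    have hc := h.comm z hz y hy
    have e : n * z * n⁻¹ = x * z * x⁻¹ := by
      rw [hxy]
      calc x * y * z * (x * y)⁻¹ = x * (y * z) * y⁻¹ * x⁻¹ := by group
        _ = x * (z * y) * y⁻¹ * x⁻¹ := by rw [hc]
        _ = x * z * x⁻¹ := by group
    have m1 : n * z * n⁻¹ ∈ L₁ := by
      rw [e]; exact L₁.mul_mem (L₁.mul_mem hx hz) (L₁.inv_mem hx)
    exact cfg_of_conj h (cfg_meet h m1 m2)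
  have hL₂ : ∀ z ∈ L₂, z = 1 ∨ z = j := by
    intro z hz
    have m1 : n * z * n⁻¹ ∈ L₁ := cfg_n₂ h hz
    exact cfg_of_conj h (hL₁ _ m1)
  have hjj := cfg_jj h
  have hnn := cfg_nn h
  have hn1 : n * n = 1 := by
    rcases hL₁ x hx with ex | ex <;> rcases hL₂ y hy with ey | ey
    · rw [hxy, ex, ey]; group
    · rw [hxy, ex, ey, one_mul]; exact hjj
    · rw [hxy, ex, ey, mul_one]; exact hjj
    · rw [hxy, ex, ey, hjj]; group
  exact cfg_j_ne_one h (hnn.symm.trans hn1)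

/-- `C(j) = L₁L₂ ∪ n L₁L₂`. -/
theorem cfg_coset (h : Cfg L₁ L₂ j n) {r : G} (hr : r ∈ Subgroup.centralizer ({j} : Set G))
    (hrY : r ∉ L₁ ⊔ L₂) : n⁻¹ * r ∈ L₁ ⊔ L₂ := by
  have hidx : ((L₁ ⊔ L₂).subgroupOf (Subgroup.centralizer ({j} : Set G))).index = 2 := h.idx
  have key := Subgroup.mul_mem_iff_of_index_two hidx
    (a := (⟨n⁻¹, inv_mem h.hn⟩ : Subgroup.centralizer ({j} : Set G))) (b := ⟨r, hr⟩)
  have hn' : (⟨n⁻¹, inv_mem h.hn⟩ : Subgroup.centralizer ({j} : Set G)) ∉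
      (L₁ ⊔ L₂).subgroupOf (Subgroup.centralizer ({j} : Set G)) := by
    rw [Subgroup.mem_subgroupOf]
    intro hh
    exact cfg_n_notMem h (by simpa using (L₁ ⊔ L₂).inv_mem hh)
  have hr' : (⟨r, hr⟩ : Subgroup.centralizer ({j} : Set G)) ∉
      (L₁ ⊔ L₂).subgroupOf (Subgroup.centralizer ({j} : Set G)) := by
    rw [Subgroup.mem_subgroupOf]; exact hrY
  have := key.mpr ⟨fun a => absurd a hn', fun b => absurd b hr'⟩
  exact Subgroup.mem_subgroupOf.mp this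

end

end Cfsg.Agent.Lib.Helper84.FW
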