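import Mathlib
import Cfsg.Agent.Lib.Helper44.FW.Defs
import Cfsg.Agent.Lib.Helper84.FW.Base

/-!
# FW (S3211), package [INVOL]: the involutions of `C(j)`
-/

set_option autoImplicit false

namespace Cfsg.Agent.Lib.Helper84.FW

open Cfsg.Agent.Lib.Helper44.FW

universe u

/-- [INVOL] -/
theorem pkgInvol : PkgInvol.{u} := by
  intro G _ L₁ L₂ j n h u₁ u₂ r hr hr2 hr1 hrj
  have hjj := cfg_jj h
  have hj1 := cfg_j_ne_one h
  by_cases hrY : r ∈ L₁ ⊔ L₂
  · obtain ⟨x, hx, y, hy, hxy'⟩ := cfg_mem_sup h hrY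
    have hxy : x * y = y * x := h.comm x hx y hy
    have e1 : (x * x) * (y * y) = 1 := by
      calc (x * x) * (y * y) = x * (x * y) * y := by group
        _ = x * (y * x) * y := by rw [hxy]
        _ = (x * y) ^ 2 := by rw [pow_two]; group
        _ = 1 := by rw [← hxy']; exact hr2
    have e2 : x * x = (y * y)⁻¹ := eq_inv_of_mul_eq_one_left e1
    have m2 : x * x ∈ L₂ := by rw [e2]; exact L₂.inv_mem (L₂.mul_mem hy hy)
    rcases cfg_meet h (L₁.mul_mem hx hx) m2 with e | e
    · exfalso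
      have ey : y * y = 1 := by rw [e, one_mul] at e1; exact e1
      have hx' := u₁ x hx (by rw [pow_two]; exact e)
      have hy' := u₂ y hy (by rw [pow_two]; exact ey)
      rcases hx' with ex | ex <;> rcases hy' with ey' | ey'
      · exact hr1 (by rw [hxy', ex, ey', one_mul])
      · exact hrj (by rw [hxy', ex, ey', one_mul])
      · exact hrj (by rw [hxy', ex, ey', mul_one])
      · exact hr1 (by rw [hxy', ex, ey']; exact hjj)
    · refine ⟨x, hx, y, hy, hxy', by rw [pow_two]; exact e, ?_⟩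
      rw [e] at e1
      rw [pow_two]
      calc y * y = (j * j) * (y * y) := by rw [hjj, one_mul]
        _ = j * (j * (y * y)) := by rw [mul_assoc]
        _ = j := by rw [e1, mul_one]
  · exfalso
    have hw := cfg_coset h hr hrY
    obtain ⟨u, hu, v, hv, hw'⟩ := cfg_mem_sup h hw
    have hr' : r = n * (u * v) := by rw [← hw']; group
    have hnn := cfg_nn h
    have hnj : n * j = j * n := cfg_comm_j h.hn
    have hvj : v * j = j * v := cfg_comm_j (cfg_le₂ h hv)
    have hu' : n * u * n⁻¹ ∈ L₂ := cfg_n₁ h hu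
    have hv' : n * v * n⁻¹ ∈ L₁ := cfg_n₂ h hv
    have hjinv := cfg_j_inv h
    -- F1
    have hrr : n * (u * v) * (n * (u * v)) = 1 := by
      rw [← hr', ← pow_two]; exact hr2
    have F1 : u * v * ((n * u * n⁻¹) * (n * v * n⁻¹)) = j := by
      calc u * v * ((n * u * n⁻¹) * (n * v * n⁻¹))
          = n⁻¹ * (n * (u * v) * (n * (u * v))) * n⁻¹ := by group
        _ = (n * n)⁻¹ := by rw [hrr]; group
        _ = j := by rw [hnn, hjinv]
    have hc := h.comm (n * v * n⁻¹) hv' (v * (n * u * n⁻¹)) (L₂.mul_mem hv hu')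
    have F2 : (u * (n * v * n⁻¹)) * (v * (n * u * n⁻¹)) = j := by
      calc (u * (n * v * n⁻¹)) * (v * (n * u * n⁻¹))
          = u * ((n * v * n⁻¹) * (v * (n * u * n⁻¹))) := by group
        _ = u * ((v * (n * u * n⁻¹)) * (n * v * n⁻¹)) := by rw [hc]
        _ = u * v * ((n * u * n⁻¹) * (n * v * n⁻¹)) := by group
        _ = j := F1
    have hp₁ : u * (n * v * n⁻¹) ∈ L₁ := L₁.mul_mem hu hv'
    have hq₂ : v * (n * u * n⁻¹) ∈ L₂ := L₂.mul_mem hv hu'
    have hp₂ : u * (n * v * n⁻¹) ∈ L₂ := by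
      have : u * (n * v * n⁻¹) = j * (v * (n * u * n⁻¹))⁻¹ := eq_mul_inv_of_mul_eq F2
      rw [this]
      exact L₂.mul_mem (cfg_j_mem₂ h) (L₂.inv_mem hq₂)
    have F3 : n * (u * (n * v * n⁻¹)) * n⁻¹ = (n * u * n⁻¹) * v := by
      calc n * (u * (n * v * n⁻¹)) * n⁻¹ = (n * u * n⁻¹) * ((n * n) * v * (n * n)⁻¹) := by group
        _ = (n * u * n⁻¹) * (j * v * j⁻¹) := by rw [hnn]
        _ = (n * u * n⁻¹) * v := by rw [← hvj]; group
    rcases cfg_meet h hp₁ hp₂ with ep | ep
    · rw [ep] at F3 F2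
      have e3 : (n * u * n⁻¹) * v = 1 := by rw [← F3]; group
      have e4 : v * (n * u * n⁻¹) = 1 := mul_eq_one_comm.mp e3
      rw [e4, one_mul] at F2
      exact hj1 F2.symm
    · rw [ep] at F3 F2
      have e3 : (n * u * n⁻¹) * v = j := by rw [← F3, hnj]; group
      have e4 : v * (n * u * n⁻¹) = j := by
        calc v * (n * u * n⁻¹) = v * ((n * u * n⁻¹) * v) * v⁻¹ := by group
          _ = v * j * v⁻¹ := by rw [e3]
          _ = j := by rw [hvj]; group
      rw [e4, hjj] at F2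
      exact hj1 F2.symm

end Cfsg.Agent.Lib.Helper84.FW
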