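import Mathlib
import Cfsg.Agent.Lib.Helper44.FW.Defs

/-!
# FW (S3211), package [TRANS]: transport of the `SL₂` facts to a subgroup `L ≅ SL₂(F)`
-/

set_option autoImplicit false

namespace Cfsg.Agent.Lib.Helper84.FW

open Cfsg.Agent.Lib.Helper44.FW

universe u v

theorem trans_two_ne_zero {F : Type v} [Field F] [Fintype F] (hodd : Odd (Fintype.card F)) :
    (2 : F) ≠ 0 := by
  intro h2
  have h0 : 2 • (1 : F) = 0 := by rw [two_nsmul, one_add_one_eq_two, h2]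
  have h1 : addOrderOf (1 : F) = 2 := addOrderOf_eq_prime h0 one_ne_zero
  have h3 : 2 ∣ Fintype.card F := h1 ▸ addOrderOf_dvd_card
  exact (Nat.not_even_iff_odd.mpr hodd) (even_iff_two_dvd.mpr h3)

theorem trans_ext {F : Type v} [Field F] {x11 x12 x21 x22 y11 y12 y21 y22 : F} (h11 : x11 = y11)
    (h12 : x12 = y12) (h21 : x21 = y21) (h22 : x22 = y22) :
    (!![x11, x12; x21, x22] : Matrix (Fin 2) (Fin 2) F) = !![y11, y12; y21, y22] := by
  subst h11 h12 h21 h22; rfl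

theorem trans_qA_sq (F : Type v) [Field F] : (qA F) ^ 2 = negOne F := by
  rw [pow_two]
  apply Subtype.ext
  show (!![0, -1; 1, 0] * !![0, -1; 1, 0] : Matrix (Fin 2) (Fin 2) F) = !![-1, 0; 0, -1]
  rw [Matrix.mul_fin_two]
  exact trans_ext (by ring) (by ring) (by ring) (by ring)

/-- [TRANS] -/
theorem pkgTrans : PkgSL2U.{v} → PkgSL2SQ.{v} → PkgTrans.{u, v} := by
  intro hU hSQ G _ F _ _ hodd L ⟨e⟩ j hjL hj
  have h2 : (2 : F) ≠ 0 := trans_two_ne_zero hodd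
  have hj1 : j ≠ 1 := by
    intro h
    rw [h, orderOf_one] at hj
    omega
  have hjj : j ^ 2 = 1 := by rw [← hj]; exact pow_orderOf_eq_one j
  have hJ2 : (⟨j, hjL⟩ : L) ^ 2 = 1 := Subtype.ext hjj
  have hJ1 : (⟨j, hjL⟩ : L) ≠ 1 := fun h => hj1 (congrArg Subtype.val h)
  have heJ : e ⟨j, hjL⟩ = negOne F := by
    rcases hU F h2 (e ⟨j, hjL⟩) (by rw [← map_pow, hJ2, map_one]) with h | h
    · exfalso
      apply hJ1
      apply e.injective
      rw [h, map_one]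
    · exact h
  refine ⟨?_, ?_, ?_⟩
  · intro x hx hx2
    have hX : (⟨x, hx⟩ : L) ^ 2 = 1 := Subtype.ext hx2
    rcases hU F h2 (e ⟨x, hx⟩) (by rw [← map_pow, hX, map_one]) with h | h
    · left
      have : (⟨x, hx⟩ : L) = 1 := e.injective (by rw [h, map_one])
      exact congrArg Subtype.val this
    · right
      have : (⟨x, hx⟩ : L) = ⟨j, hjL⟩ := e.injective (by rw [h, heJ])
      exact congrArg Subtype.val this
  · refine ⟨(e.symm (qA F) : L), (e.symm (qA F)).2, ?_⟩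
    have hq : (qA F) ^ 2 = negOne F := trans_qA_sq F
    have h3 : (e.symm (qA F)) ^ 2 = (⟨j, hjL⟩ : L) := by
      rw [← map_pow, hq, ← heJ, e.symm_apply_apply]
    exact congrArg Subtype.val h3
  · intro x hx hx2 u hu u' hu' huu hu'u
    have hX : (⟨x, hx⟩ : L) ^ 2 = ⟨j, hjL⟩ := Subtype.ext hx2
    have hU1 : (⟨u, hu⟩ : L) ^ 2 = ⟨x, hx⟩ := Subtype.ext huu
    have hU2 : (⟨u', hu'⟩ : L) ^ 2 = ⟨x, hx⟩ := Subtype.ext hu'u
    have h1 : (e ⟨x, hx⟩) ^ 2 = negOne F := by rw [← map_pow, hX, heJ]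
    have h2' : (e ⟨u, hu⟩) ^ 2 = e ⟨x, hx⟩ := by rw [← map_pow, hU1]
    have h3 : (e ⟨u', hu'⟩) ^ 2 = e ⟨x, hx⟩ := by rw [← map_pow, hU2]
    rcases hSQ F h2 (e ⟨x, hx⟩) (e ⟨u, hu⟩) (e ⟨u', hu'⟩) h1 h2' h3 with h | h
    · left
      have : (⟨u', hu'⟩ : L) = ⟨u, hu⟩ := e.injective h
      exact congrArg Subtype.val this
    · right
      have : (⟨u', hu'⟩ : L) = ⟨u, hu⟩ * ⟨j, hjL⟩ := e.injective (by rw [h, map_mul, heJ])
      exact congrArg Subtype.val this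

end Cfsg.Agent.Lib.Helper84.FW
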